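import Cfsg.Agent.Twisted.Tits.Bits
import Cfsg.Agent.Twisted.Groups.F4Inst
import Cfsg.Agent.ChevIsogeny.WordCheck

/-!
Every involution of `²F₄(2)` lies in the derived subgroup.
-/

set_option autoImplicit false
set_option maxRecDepth 4000

namespace Cfsg.Agent.Twisted.Tits

open Cfsg.Lie ChevGroup TypeF4
open scoped commutatorElement

theorem card_two : Fintype.card (ZMod 2) = 2 ^ (2 * 0 + 1) := ZMod.card 2

/-- the frame over the field with two elements -/
theorem fr : Frame (T := MT) (relsOfCommGood ChevCore.commGoodF4 (ZMod 2)) PP (2 ^ 0) fd :=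
  frame₀ card_two

local notation "KK" => relsOfCommGood ChevCore.commGoodF4 (ZMod 2)
local notation "G₁" => genG MT KK (f4Words (ZMod 2) (2 ^ 0))

/-- a product of root elements with parameter one -/
noncomputable def ev (w : List (Fin MT.tab.n)) : ↥(chevF4.group (ZMod 2)) :=
  (w.map fun r => (MT.rel KK).x r 1).prod

theorem ev_append (a b : List (Fin MT.tab.n)) : ev (a ++ b) = ev a * ev b := by simp [ev]

theorem mat_ev (w : List (Fin MT.tab.n)) :
    Model.mat (ev w) = chevF4.wordMat (ZMod 2) ((w.map Fin.val).map fun r => (r, 1)) := by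
  induction w with
  | nil => simp [ev, Model.mat, ChevalleyDatum.wordMat]
  | cons r w ih =>
    have e : ev (r :: w) = (MT.rel KK).x r 1 * ev w := by simp [ev]
    rw [e, Model.mat_mul, ih]
    simp only [ChevalleyDatum.wordMat, List.map_cons, List.prod_cons]
    exact congrArg (· * _) (MT.mat_xG KK r 1)

theorem ev_congr {a b : List (Fin MT.tab.n)}
    (h : ChevIsogeny.wordEqB chevF4 (ChevCore.fast chevF4 ChevCore.packedF4) 2
      (a.map fun r => (r.val, (1 : ℤ))) (b.map fun r => (r.val, (1 : ℤ))) = true) : ev a = ev b := by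
  refine Model.mat_inj ?_
  have := ChevIsogeny.wordMat_eq_of_check ChevCore.goodF4 ChevCore.chkLinkF4 h (ZMod 2) rfl
  simpa [mat_ev, Function.comp_def] using this

theorem zmod_two : ∀ t : ZMod 2, t = 0 ∨ t = 1 := by decide

theorem unit_one {d : ZMod 2} (h : d ≠ 0) : d = 1 := by revert d; decide

theorem nj_conj_x (k : Fin 2) (r : Fin MT.tab.n) :
    nj fr k * (MT.rel KK).x r 1 * (nj fr k)⁻¹ = (MT.rel KK).x (pfl k r) 1 := by
  obtain ⟨d, hd, hd'⟩ := ((gens fr card_two).nj_coset k).conj_x r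
  rw [hd' 1, mul_one, unit_one hd]
  rfl

theorem nj_conj_ev (k : Fin 2) : ∀ w : List (Fin MT.tab.n),
    nj fr k * ev w * (nj fr k)⁻¹ = ev (w.map (pfl k))
  | [] => by simp [ev]
  | r :: w => by
    have e : ∀ r w, ev (r :: w) = (MT.rel KK).x r 1 * ev w := by simp [ev]
    rw [List.map_cons, e, e, ← nj_conj_ev k w, ← nj_conj_x k r]
    group

theorem x_zero' (r : Fin MT.tab.n) : (MT.rel KK).x r 0 = 1 := (MT.rel KK).x_zero r

theorem xw_spec (k : Fin 2) {a : ↥(chevF4.group (ZMod 2))} (ha : a ∈ (gens fr card_two).data.X k) :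
    ∃ p ∈ xw k, a = ev p.2 := by
  match k with
  | 0 =>
    obtain ⟨t, rfl⟩ := cls0 fr ha.2 ((gens fr card_two).fixed a ha.1)
    obtain rfl | rfl := zmod_two t
    · exact ⟨(false, []), by decide, by simp [pairW, prodX, two, ev, x_zero']⟩
    · exact ⟨(false, [33, 24]), by decide, by simp [pairW, prodX, two, ev]⟩
  | 1 =>
    obtain ⟨t, u, rfl⟩ := cls1 fr card_two ha.2 ((gens fr card_two).fixed a ha.1)
    have h11 : (1 : ZMod 2) + 1 = 0 := by decide
    obtain rfl | rfl := zmod_two t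
    · obtain rfl | rfl := zmod_two u
      · exact ⟨(false, []), by decide, by simp [clsW, form, prodX, two, ev, x_zero']⟩
      · exact ⟨(false, [28, 30]), by decide, by simp [clsW, form, prodX, two, ev, x_zero']⟩
    · obtain rfl | rfl := zmod_two u
      · exact ⟨(true, [27, 25, 28]), by decide, by simp [clsW, form, prodX, two, ev, x_zero', mul_assoc]⟩
      · exact ⟨(true, [27, 25, 30]), by decide,
          by simp [clsW, form, prodX, two, ev, x_zero', h11, mul_assoc]⟩

theorem xw_mem (k : Fin 2) {p : Bool × List (Fin MT.tab.n)} (hp : p ∈ xw k) : ev p.2 ∈ G₁ := by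
  have h11 : (1 : ZMod 2) + 1 = 0 := by decide
  match k with
  | 0 =>
    have hxw : xw 0 = [(false, []), (false, [33, 24])] := rfl
    rw [hxw] at hp
    simp only [List.mem_cons, List.not_mem_nil, or_false] at hp
    rcases hp with rfl | rfl
    · simp [ev]
    · simpa [pairW, prodX, two, ev] using (pairW_mem fr (1 : ZMod 2)).1
  | 1 =>
    have hxw : xw 1 = [(false, []), (false, [28, 30]), (true, [27, 25, 28]), (true, [27, 25, 30])] := rfl
    rw [hxw] at hp
    simp only [List.mem_cons, List.not_mem_nil, or_false] at hp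
    rcases hp with rfl | rfl | rfl | rfl
    · simp [ev]
    · simpa [clsW, form, prodX, two, ev, x_zero'] using (clsW_mem fr (0 : ZMod 2) 1).1
    · simpa [clsW, form, prodX, two, ev, x_zero', mul_assoc] using (clsW_mem fr (1 : ZMod 2) 0).1
    · simpa [clsW, form, prodX, two, ev, x_zero', h11, mul_assoc] using (clsW_mem fr (1 : ZMod 2) 1).1

theorem P_step {Φ I : Type*} {G : Type*} [Group G] {F : Type*} [Field F] {S : RootIdx Φ I}
    {R : RootRel G F S} {G₂ : Subgroup G} {L : Type*} (D : Data R G₂ L) {ι : Type*} [Fintype ι] [DecidableEq ι]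
    (M : Shape R ι) {k : L} {W : List L} (hk : D.Back k W) {u : G} (hu : u ∈ D.P (k :: W)) :
    ∃ a ∈ D.X k, ∃ c ∈ D.P W, u = a * (D.nJ k * c * (D.nJ k)⁻¹) := by
  obtain ⟨hu, hv⟩ := hu
  obtain ⟨a, ha, c, hc, rfl, ha', hc'⟩ := D.fixed_decomp M k hu.2 (D.fixed u hu.1)
  have haX := D.X_mem ha ha'
  have hc1 : c ∈ G₂ := by
    have := mul_mem (inv_mem (Subgroup.mem_inf.1 haX).1) (Subgroup.mem_inf.1 hu).1
    simpa using this
  have h1 : (D.nW (k :: W))⁻¹ * c * D.nW (k :: W) ∈ V R := by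
    have := mul_mem (inv_mem (D.nW_cons_inv_conj_Uk hk ha)) hv
    simpa [mul_assoc] using this
  exact ⟨a, haX, (D.nJ k)⁻¹ * c * D.nJ k,
    ⟨Subgroup.mem_inf.2 ⟨mul_mem (mul_mem (inv_mem (D.nJ_mem k)) hc1) (D.nJ_mem k),
      D.Uo_le_U k (D.nJ_inv_conj_Uo k hc)⟩, by simpa [mul_assoc] using h1⟩, by group⟩

theorem P_nil {Φ I : Type*} {G : Type*} [Group G] {F : Type*} [Field F] {S : RootIdx Φ I}
    {R : RootRel G F S} {G₂ : Subgroup G} {L : Type*} (D : Data R G₂ L) {ι : Type*} [Fintype ι] [DecidableEq ι]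
    (M : Shape R ι) {u : G} (hu : u ∈ D.P []) : u = 1 := by
  have h2 := hu.2
  simp only [Data.nW_nil, inv_one, one_mul, mul_one] at h2
  exact U_inter_V R M hu.1.2 h2

theorem wordsT_cons {k : Fin 2} {W : List (Fin 2)} {p : Bool × List (Fin MT.tab.n)} :
    p ∈ wordsT (k :: W) ↔ ∃ a ∈ xw k, ∃ v ∈ wordsT W, (xor a.1 v.1, a.2 ++ v.2.map (pfl k)) = p := by
  simp only [wordsT, List.mem_flatMap, List.mem_map]

theorem words_spec : ∀ W : List (Fin 2), (gens fr card_two).data.Red W →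
    ∀ u ∈ (gens fr card_two).data.P W, ∃ p ∈ wordsT W, u = ev p.2 := by
  intro W
  induction W with
  | nil =>
    intro _ u hu
    refine ⟨(false, []), List.mem_singleton_self _, ?_⟩
    rw [P_nil _ (MT.shapeR KK) hu]
    simp [ev]
  | cons k W ih =>
    intro hred u hu
    obtain ⟨a, haX, c, hc, rfl⟩ := P_step _ (MT.shapeR KK) hred.1 hu
    obtain ⟨p, hp, rfl⟩ := xw_spec k haX
    obtain ⟨v, hvw, rfl⟩ := ih hred.2 c hc
    refine ⟨(xor p.1 v.1, p.2 ++ v.2.map (pfl k)), wordsT_cons.2 ⟨p, hp, v, hvw, rfl⟩, ?_⟩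
    rw [ev_append, ← nj_conj_ev]
    rfl

/-- the image in the abelianisation -/
noncomputable def ab (g : ↥(chevF4.group (ZMod 2))) (hg : g ∈ G₁) : Abelianization ↥G₁ :=
  Abelianization.of ⟨g, hg⟩

theorem ab_conj (k : Fin 2) {w : List (Fin MT.tab.n)} (hw : ev w ∈ G₁) :
    ∃ h : ev (w.map (pfl k)) ∈ G₁, ab _ h = ab _ hw := by
  have h : ev (w.map (pfl k)) ∈ G₁ := by
    rw [← nj_conj_ev]
    exact mul_mem (mul_mem ((gens fr card_two).nj_mem k) hw) (inv_mem ((gens fr card_two).nj_mem k))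
  refine ⟨h, ?_⟩
  have e : (⟨ev (w.map (pfl k)), h⟩ : ↥G₁) = (⟨nj fr k, (gens fr card_two).nj_mem k⟩ : ↥G₁) * ⟨ev w, hw⟩ *
      (⟨nj fr k, (gens fr card_two).nj_mem k⟩ : ↥G₁)⁻¹ := Subtype.ext (nj_conj_ev k w).symm
  show Abelianization.of _ = Abelianization.of _
  rw [e, map_mul, map_mul, map_inv, mul_comm, inv_mul_cancel_left]

theorem ab_mul {a b : List (Fin MT.tab.n)} (ha : ev a ∈ G₁) (hb : ev b ∈ G₁) :
    ∃ h : ev (a ++ b) ∈ G₁, ab _ h = ab _ ha * ab _ hb := by
  have h : ev (a ++ b) ∈ G₁ := by rw [ev_append]; exact mul_mem ha hb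
  refine ⟨h, ?_⟩
  have e : (⟨ev (a ++ b), h⟩ : ↥G₁) = (⟨ev a, ha⟩ : ↥G₁) * ⟨ev b, hb⟩ := Subtype.ext (ev_append a b)
  show Abelianization.of _ = _
  rw [e, map_mul]
  rfl

theorem ev_rev (w : List (Fin MT.tab.n)) : ev w.reverse = (ev w)⁻¹ := by
  induction w with
  | nil => simp [ev]
  | cons r w ih =>
    have e : ev (r :: w) = (MT.rel KK).x r 1 * ev w := by simp [ev]
    have hx : ((MT.rel KK).x r 1)⁻¹ = (MT.rel KK).x r 1 := by
      rw [← (MT.rel KK).x_neg]; rfl
    rw [List.reverse_cons, ev_append, ih, e, mul_inv_rev, hx]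
    simp [ev]

theorem ab_congr {a b : ↥(chevF4.group (ZMod 2))} (e : a = b) (ha : a ∈ G₁) (hb : b ∈ G₁) :
    ab a ha = ab b hb := by subst e; rfl

theorem ab_xw : ∃ γ : Abelianization ↥G₁, γ * γ = 1 ∧ ∀ (k : Fin 2) (p : Bool × List (Fin MT.tab.n)),
    ∀ hp : p ∈ xw k, ab _ (xw_mem k hp) = if p.1 then γ else 1 := by
  have hy : ev [33, 24] ∈ G₁ := xw_mem 0 (p := (false, [33, 24])) (by decide)
  have hz : ev [28, 30] ∈ G₁ := xw_mem 1 (p := (false, [28, 30])) (by decide)
  have hg : ev [27, 25, 28] ∈ G₁ := xw_mem 1 (p := (true, [27, 25, 28])) (by decide)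
  have hcomm : ∀ (a b c : List (Fin MT.tab.n)) (ha : ev a ∈ G₁) (hb : ev b ∈ G₁) (hc : ev c ∈ G₁),
      ChevIsogeny.wordEqB chevF4 (ChevCore.fast chevF4 ChevCore.packedF4) 2
        (c.map fun r => (r.val, (1 : ℤ))) ((a ++ b ++ a.reverse ++ b.reverse).map fun r => (r.val, (1 : ℤ))) = true →
      ab _ hc = 1 := by
    intro a b c ha hb hc h
    have e : (⟨ev c, hc⟩ : ↥G₁) = ⁅(⟨ev a, ha⟩ : ↥G₁), (⟨ev b, hb⟩ : ↥G₁)⁆ := by
      refine Subtype.ext ?_
      show ev c = _
      rw [ev_congr h, ev_append, ev_append, ev_append, ev_rev, ev_rev, commutatorElement_def]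
      rfl
    show Abelianization.of _ = 1
    rw [e, map_commutatorElement, commutatorElement_eq_one_iff_mul_comm]
    exact mul_comm _ _
  obtain ⟨g3, eg3⟩ := ab_conj 0 hg
  obtain ⟨g3', eg3'⟩ := ab_conj 1 g3
  obtain ⟨y1, ey1⟩ := ab_conj 1 hy
  obtain ⟨y2, ey2⟩ := ab_conj 0 y1
  obtain ⟨y3, ey3⟩ := ab_conj 1 y2
  obtain ⟨z1, ez1⟩ := ab_conj 0 hz
  obtain ⟨z2, ez2⟩ := ab_conj 1 z1
  have hy1 : ab _ hy = 1 := by
    rw [← ey1]
    exact hcomm [27, 25, 28] _ _ hg g3' y1 (by decide +kernel)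
  have hz1 : ab _ hz = 1 := by
    rw [← ez1, ← ez2]
    exact hcomm [27, 25, 28] _ _ hg y3 z2 (by decide +kernel)
  refine ⟨ab _ hg, ?_, ?_⟩
  · obtain ⟨h2, e2⟩ := ab_mul hg hg
    rw [← e2, ← hz1]
    exact ab_congr (ev_congr (by decide +kernel)) _ _
  · intro k p hp
    match k with
    | 0 =>
      have hxw : xw 0 = [(false, []), (false, [33, 24])] := rfl
      have hp' := hp
      rw [hxw] at hp'
      simp only [List.mem_cons, List.not_mem_nil, or_false] at hp'
      rcases hp' with rfl | rfl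
      · exact (ab_congr (by simp [ev]) _ (one_mem _)).trans (map_one (Abelianization.of (G := ↥G₁)))
      · exact hy1
    | 1 =>
      have hxw : xw 1 = [(false, []), (false, [28, 30]), (true, [27, 25, 28]), (true, [27, 25, 30])] := rfl
      have hp' := hp
      rw [hxw] at hp'
      simp only [List.mem_cons, List.not_mem_nil, or_false] at hp'
      rcases hp' with rfl | rfl | rfl | rfl
      · exact (ab_congr (by simp [ev]) _ (one_mem _)).trans (map_one (Abelianization.of (G := ↥G₁)))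
      · exact hz1
      · rfl
      · obtain ⟨h2, e2⟩ := ab_mul hg hz
        rw [if_pos rfl, ← mul_one (ab _ hg), ← hz1, ← e2]
        exact ab_congr (ev_congr (by decide +kernel)) _ _

theorem words_ab {γ : Abelianization ↥G₁} (hγ : γ * γ = 1)
    (hx : ∀ (k : Fin 2) (p : Bool × List (Fin MT.tab.n)), ∀ hp : p ∈ xw k, ab _ (xw_mem k hp) = if p.1 then γ else 1) :
    ∀ W : List (Fin 2), ∀ p ∈ wordsT W, ∃ h : ev p.2 ∈ G₁, ab _ h = if p.1 then γ else 1 := by
  intro W
  induction W with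
  | nil =>
    intro p hp
    obtain rfl : p = (false, []) := List.mem_singleton.1 hp
    exact ⟨by simp [ev],
      (ab_congr (by simp [ev]) _ (one_mem _)).trans (map_one (Abelianization.of (G := ↥G₁)))⟩
  | cons k W ih =>
    intro p hp
    obtain ⟨a, ha, v, hv, rfl⟩ := wordsT_cons.1 hp
    obtain ⟨h, e⟩ := ih v hv
    obtain ⟨h', e'⟩ := ab_conj k h
    obtain ⟨h'', e''⟩ := ab_mul (xw_mem k ha) h'
    refine ⟨h'', ?_⟩
    rw [e'', e', hx k a ha, e]
    cases a.1 <;> cases v.1 <;> simp [hγ]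

theorem P_involution {W : List (Fin 2)} (hW : (gens fr card_two).data.Red W)
    (hsq : ∀ p ∈ wordsT W, p.1 = true →
      chevF4.wordMat (ZMod 2) (((p.2.map Fin.val) ++ (p.2.map Fin.val)).map fun r => (r, 1)) ≠ 1)
    {u : ↥(chevF4.group (ZMod 2))} (hu : u ∈ (gens fr card_two).data.P W) (hG : u ∈ G₁)
    (h2 : u * u = 1) : (⟨u, hG⟩ : ↥G₁) ∈ commutator ↥G₁ := by
  obtain ⟨γ, hγ, hx⟩ := ab_xw
  obtain ⟨p, hp, rfl⟩ := words_spec W hW u hu
  obtain ⟨h, e⟩ := words_ab hγ hx W p hp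
  cases hb : p.1
  · rw [hb] at e
    rw [← Abelianization.ker_of, MonoidHom.mem_ker]
    exact e.trans (if_neg Bool.false_ne_true)
  · refine absurd ?_ (hsq p hp hb)
    have := congrArg Model.mat h2
    rw [← ev_append, mat_ev, List.map_append] at this
    rw [this]
    simp [Model.mat]

theorem mem_of_involution {G : Type*} [Group G] [Finite G] (P N : Subgroup G) [N.Normal]
    (hP : Nat.card P = 2 ^ (Nat.card G).factorization 2) (h : ∀ x ∈ P, x * x = 1 → x ∈ N)
    {g : G} (hg : g * g = 1) : g ∈ N := by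
  haveI : Fact (Nat.Prime 2) := ⟨Nat.prime_two⟩
  let S : Sylow 2 G := Sylow.ofCard P hP
  obtain ⟨Q, hQ⟩ := IsPGroup.exists_le_sylow (G := G) (p := 2) (P := Subgroup.zpowers g) (by
    intro x
    refine ⟨1, ?_⟩
    obtain ⟨z, hz⟩ := x.2
    refine Subtype.ext ?_
    show (x : G) ^ (2 ^ 1) = 1
    rw [← hz, ← zpow_natCast, ← zpow_mul, mul_comm, zpow_mul, zpow_natCast, pow_one, pow_two, hg, one_zpow])
  obtain ⟨a, ha⟩ := MulAction.exists_smul_eq G Q S
  have hmem : a * g * a⁻¹ ∈ (S : Subgroup G) := by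
    rw [← ha, Sylow.coe_subgroup_smul]
    exact Subgroup.mem_pointwise_smul_iff_inv_smul_mem.2 (by
      simpa [MulAut.smul_def, mul_assoc] using hQ (Subgroup.mem_zpowers g))
  have e : a * g * a⁻¹ * (a * g * a⁻¹) = 1 := by
    calc a * g * a⁻¹ * (a * g * a⁻¹) = a * (g * g) * a⁻¹ := by group
      _ = 1 := by rw [hg, mul_one, mul_inv_cancel]
  have h3 := Subgroup.Normal.conj_mem inferInstance _ (h _ (by simpa [S] using hmem) e) a⁻¹
  simpa [mul_assoc] using h3

/-- Every involution of `²F₄(2)` lies in the derived subgroup. -/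
theorem involution_mem (g : ↥G₁) (hg : g * g = 1) : g ∈ commutator ↥G₁ := by
  have hL := (gens fr card_two).longest long_ok
  refine mem_of_involution ((gens fr card_two).data.U1.subgroupOf G₁) (commutator ↥G₁) ?_ ?_ hg
  · have hP : Nat.card ↥((gens fr card_two).data.U1.subgroupOf G₁) = 2 ^ 12 := by
      refine (Nat.card_congr (Subgroup.subgroupOfEquivOfLe
        (inf_le_left : (gens fr card_two).data.U1 ≤ G₁)).toEquiv).trans ?_
      exact ((gens fr card_two).data.card_U1 (MT.shapeR KK) hL).trans (by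
        simp only [W0, List.map_cons, List.map_nil, List.prod_cons, List.prod_nil, card_X0 fr card_two,
          card_X1 fr card_two]
        norm_num)
    have hG : Nat.card ↥G₁ = 2 ^ 12 * 8775 :=
      (Nat.card_congr (genEquiv MT KK (f4Words (ZMod 2) (2 ^ 0))).toEquiv).trans
        ((card_G fr card_two).trans (by norm_num))
    rw [hP, hG, Nat.factorization_mul (by norm_num) (by norm_num), Finsupp.add_apply,
      Nat.Prime.factorization_pow Nat.prime_two, Finsupp.single_eq_same,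
      Nat.factorization_eq_zero_of_not_dvd (show ¬ 2 ∣ 8775 by norm_num)]
  · intro x hx h2
    have hx' := Subgroup.mem_subgroupOf.1 hx
    have hP := ((gens fr card_two).data.nW_coset W0).inv_conj_Sg (T' := fun r => (MT.S).pos ((MT.S).neg r)) _ hL.2 hx'.2
    have hsq : ∀ p ∈ wordsT W0, p.1 = true → chevF4.wordMat (ZMod 2)
        (((p.2.map Fin.val) ++ (p.2.map Fin.val)).map fun r => (r, 1)) ≠ 1 :=
      fun p hp hb => word_sq_ne_one hp hb
    have h2' := congrArg Subtype.val h2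
    have := P_involution (W := W0) hL.1 hsq (u := (x : ↥(chevF4.group (ZMod 2)))) ⟨hx', hP⟩ x.2 h2'
    exact this

end Cfsg.Agent.Twisted.Tits
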