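import Cfsg.Agent.Twisted.Tits.Tables
import Cfsg.Agent.Lib.ChevCore.CommAll
import Cfsg.Agent.Lib.ChevCore.RootElem

/-!
The maps on bit vectors are the root elements over the field with two elements.
-/

set_option autoImplicit false

namespace Cfsg.Agent.Twisted.Tits

open Cfsg.Lie ChevCore
open scoped Matrix

/-- the vector of a bit mask -/
def toVec (n : ℕ) : chevF4.Idx → ZMod 2 := fun a => if n.testBit (code chevF4 a) then 1 else 0

theorem toVec_zero : toVec 0 = 0 := by funext a; simp [toVec]

theorem toVec_xor (m n : ℕ) : toVec (m ^^^ n) = toVec m + toVec n := by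
  funext a
  have h : (0 : ZMod 2) = 1 + 1 := by decide
  simp only [toVec, Nat.testBit_xor, Pi.add_apply]
  cases m.testBit (code chevF4 a) <;> cases n.testBit (code chevF4 a) <;> simp [h]

theorem toVec_natOfS (L : SVec) : toVec (natOfS L) = ChevCore.vec chevF4 (ZMod 2) L := by
  induction L with
  | nil => exact toVec_zero
  | cons e L ih =>
    have he : natOfS (e :: L) = bif zIsZero (e.2 % 2) then natOfS L else (2 ^ e.1) ^^^ natOfS L := rfl
    rw [he, show e = (e.1, e.2) from rfl, vec_cons]
    by_cases hz : e.2 % 2 = 0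
    · have h0 : (e.2 : ZMod 2) = 0 := (ZMod.intCast_zmod_eq_zero_iff_dvd _ 2).2 (Int.dvd_of_emod_eq_zero hz)
      rw [zIsZero_iff.2 hz, cond_true, ih, h0]
      funext a
      simp
    · have h1 : (e.2 : ZMod 2) = 1 := by
        have : ((e.2 % 2 : ℤ) : ZMod 2) = (e.2 : ZMod 2) := by
          conv_rhs => rw [← Int.mul_ediv_add_emod e.2 2]
          simp [show (2 : ZMod 2) = 0 from rfl]
        rw [← this, show e.2 % 2 = 1 by omega, Int.cast_one]
      rw [Bool.eq_false_iff.2 fun hb => hz (zIsZero_iff.1 hb), cond_false, toVec_xor, ih, h1]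
      congr 1
      funext a
      simp [toVec, Nat.testBit_two_pow]

/-- `x_r(1) - 1` -/
noncomputable def aMat (r : ℕ) : Matrix chevF4.Idx chevF4.Idx (ZMod 2) :=
  Mc chevF4 (ZMod 2) 1 r + Mc chevF4 (ZMod 2) 2 r + Mc chevF4 (ZMod 2) 3 r

theorem app_spec {r : ℕ} (hr : r < 48) (n : ℕ) :
    toVec (app r n) = chevF4.x (ZMod 2) r 1 *ᵥ toVec n := by
  have hok := tbl_ok
  simp only [tblB, kallUpTo_iff, Bool.and_eq_true, kall_iff] at hok
  obtain ⟨hlt, hcol⟩ := hok r hr
  have hA : ∀ v : chevF4.Idx, aMat r *ᵥ Pi.single v 1 =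
      toVec (maskAt (tbl.getD r []) (code chevF4 v)) := by
    intro v
    rw [← Nat.eq_of_beq_eq_true (hcol _ (code_lt chevF4 v)), toVec_natOfS, colA]
    simp only [aMat, Matrix.add_mulVec, Mc_single, vec_kapp, ← (fast_eq_std chkLinkF4).1,
      ChevCore.col, add_assoc]
  have key : ∀ L : List (ℕ × ℕ), (∀ e ∈ L, e.1 < 52) →
      toVec (List.rec n (fun e _ acc => bif n.testBit e.1 then e.2 ^^^ acc else acc) L) =
        toVec n + ∑ v : chevF4.Idx, toVec n v • toVec (maskAt L (code chevF4 v)) := by
    intro L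
    induction L with
    | nil => intro _; simp [maskAt, toVec_zero]
    | cons e L ih =>
      intro hL
      have ih' := ih fun x hx => hL x (List.mem_cons_of_mem _ hx)
      obtain ⟨b, hb⟩ := exists_code_eq chevF4 (hL e (List.mem_cons_self ..))
      have hsum : ∀ v : chevF4.Idx, toVec n v • toVec (maskAt (e :: L) (code chevF4 v)) =
          toVec n v • toVec (maskAt L (code chevF4 v)) +
            if v = b then toVec n v • toVec e.2 else 0 := by
        intro v
        have he : maskAt (e :: L) (code chevF4 v) =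
            bif Nat.beq e.1 (code chevF4 v) then e.2 ^^^ maskAt L (code chevF4 v)
              else maskAt L (code chevF4 v) := rfl
        by_cases hv : v = b
        · subst hv
          rw [he, if_pos rfl, ← hb, show Nat.beq (code chevF4 v) (code chevF4 v) = true by simp,
            cond_true, toVec_xor, smul_add, add_comm]
        · rw [he, if_neg hv, add_zero, Bool.eq_false_iff.2 fun h =>
            hv (code_injective chevF4 ((Nat.eq_of_beq_eq_true h).symm.trans hb.symm)), cond_false]
      rw [Finset.sum_congr rfl fun v _ => hsum v, Finset.sum_add_distrib, Finset.sum_ite_eq',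
        if_pos (Finset.mem_univ b), ← add_assoc, ← ih']
      show toVec (bif n.testBit e.1 then _ else _) = _
      cases hn : n.testBit e.1
      · have h0 : toVec n b = 0 := by simp [toVec, hb, hn]
        rw [cond_false, h0, zero_smul, add_zero]
      · have h1 : toVec n b = 1 := by simp [toVec, hb, hn]
        rw [cond_true, toVec_xor, h1, one_smul, add_comm]
  rw [app, key _ (fun e he => by simpa using hlt e he), commGoodF4.toGood.x_eq (ZMod 2) hr, xR,
    one_pow, one_pow, one_smul, one_smul, one_smul,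
    show 1 + Mc chevF4 (ZMod 2) 1 r + Mc chevF4 (ZMod 2) 2 r + Mc chevF4 (ZMod 2) 3 r = 1 + aMat r by
      rw [aMat]; abel,
    Matrix.add_mulVec, Matrix.one_mulVec]
  refine congrArg (toVec n + ·) ?_
  conv_rhs => rw [← Finset.univ_sum_single (toVec n)]
  rw [Matrix.mulVec_sum]
  refine Finset.sum_congr rfl fun v _ => ?_
  rw [← hA, ← Matrix.mulVec_smul]
  refine congrArg (aMat r *ᵥ ·) ?_
  funext a
  simp [Pi.single_apply]

theorem appW_spec : ∀ (w : List ℕ), (∀ r ∈ w, r < 48) → ∀ n,
    toVec (appW w n) = chevF4.wordMat (ZMod 2) (w.map fun r => (r, 1)) *ᵥ toVec n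
  | [], _, n => by simp [appW, ChevalleyDatum.wordMat]
  | r :: w, h, n => by
    have he : appW (r :: w) n = app r (appW w n) := forceN_eq _ _
    rw [he, app_spec (h r (List.mem_cons_self ..)), appW_spec w (fun s hs => h s (List.mem_cons_of_mem _ hs)),
      Matrix.mulVec_mulVec]
    simp [ChevalleyDatum.wordMat]

/-- An odd element does not square to one. -/
theorem word_sq_ne_one {p : Bool × List (Fin ChevGroup.TypeF4.model.tab.n)} (hp : p ∈ wordsT TypeF4.W0) (h1 : p.1 = true) :
    chevF4.wordMat (ZMod 2) (((p.2.map Fin.val) ++ (p.2.map Fin.val)).map fun r => (r, 1)) ≠ 1 := by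
  intro he
  have h := (kall_iff _ _).1 odd_ok p hp
  simp only [h1, Bool.not_true, Bool.false_or, Bool.not_eq_true', kapp_eq] at h
  have h2 := appW_spec (p.2.map Fin.val ++ p.2.map Fin.val) (fun r hr => by
    simp only [List.mem_append, List.mem_map] at hr
    rcases hr with ⟨s, -, rfl⟩ | ⟨s, -, rfl⟩ <;> exact s.isLt) (2 ^ 8)
  rw [he, Matrix.one_mulVec] at h2
  refine Bool.false_ne_true (h.symm.trans ?_)
  have hb : ∀ a b : ℕ, a = b → Nat.beq a b = true := fun a b e => by subst e; simp
  refine hb _ _ ?_
  refine Nat.eq_of_testBit_eq fun i => ?_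
  rw [Nat.testBit_mod_two_pow]
  by_cases hi : i < 52
  · obtain ⟨b, rfl⟩ := exists_code_eq chevF4 (show i < chevF4.nroots + chevF4.rank from hi)
    have := congrFun h2 b
    simp only [toVec] at this
    rw [decide_eq_true hi, Bool.true_and]
    revert this
    cases (appW _ (2 ^ 8)).testBit (code chevF4 b) <;> cases (2 ^ 8 : ℕ).testBit (code chevF4 b) <;> simp
  · rw [decide_eq_false hi, Bool.false_and, Nat.testBit_two_pow, decide_eq_false (by omega)]

end Cfsg.Agent.Twisted.Tits
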